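import Groth.Agent.CMOpen5.Open
import Groth.Agent.S9374
import Groth.Agent.FibDim.RingLoc
import Groth.Agent.DimFormula.Fibre
import Groth.Agent.CAlgOdd.LocalDimSpec
import Mathlib

/-!
# Decomposition of algebras with Cohen–Macaulay fibres by fibre dimension
-/

set_option autoImplicit false
set_option linter.style.haveILetI false
set_option backward.isDefEq.respectTransparency false

universe u

open AlgebraicGeometry CategoryTheory TensorProduct

namespace Groth.Agent.H4CMDecomp

variable (R S : Type u) [CommRing R] [CommRing S] [Algebra R S] [Module.Flat R S]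
  [Algebra.FinitePresentation R S]

theorem isCMAt_of_fibre (hCM : ∀ p : PrimeSpectrum R, LocCoh.IsCohenMacaulayRing (p.asIdeal.Fiber S))
    (y : PrimeSpectrum S) :
    MoreMor.IsCMAt (Spec.map (CommRingCat.ofHom (algebraMap R S))) y := by
  set g := Spec.map (CommRingCat.ofHom (algebraMap R S))
  haveI : Flat g := Flat.SpecMap_iff.2 (RingHom.flat_algebraMap_iff.2 inferInstance)
  haveI : LocallyOfFinitePresentation g :=
    HasRingHomProperty.Spec_iff.2 (RingHom.finitePresentation_algebraMap.2 inferInstance)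
  let p : Ideal R := y.asIdeal.comap (algebraMap R S)
  let k := p.ResidueField
  let F := p.Fiber S
  letI : Algebra S F := Algebra.TensorProduct.rightAlgebra
  have sq := isPullback_SpecMap_of_isPushout _ _ _ _ (CommRingCat.isPushout_of_isPushout R S k F)
  obtain ⟨y', hy', -⟩ := Scheme.exists_preimage_of_isPullback sq (x := y)
    (y := (⟨⊥, Ideal.isPrime_bot⟩ : PrimeSpectrum k))
    (PrimeSpectrum.ext (R := R) (Ideal.ext fun r : R =>
      (Ideal.algebraMap_residueField_eq_zero (I := p) (x := r)).symm))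
  set g' := Spec.map (CommRingCat.ofHom (algebraMap k F))
  haveI : Flat g' := Flat.SpecMap_iff.2 (RingHom.flat_algebraMap_iff.2 inferInstance)
  haveI hF : LocCoh.IsCohenMacaulayRing F := hCM ⟨p, inferInstance⟩
  haveI : IsNoetherianRing (CommRingCat.of F) := inferInstanceAs (IsNoetherianRing F)
  haveI : IsNoetherianRing (CommRingCat.of k) := inferInstanceAs (IsNoetherianRing k)
  have h := (S9768.result g' (CMOpen5.isCM_stalk_Spec F) y').1
  rw [Triage.CMMor.isCMAt_iff_sm g' y' (g' y') rfl] at h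
  refine (congrArg (MoreMor.IsCMAt g) hy').mp ?_
  exact (Triage.CMMor.isCMAt_iff_sm g _ (g _) rfl).2
    ⟨(FibFlat.sm_flat_iff g _ (g _) rfl).2 (Flat.stalkMap g _), (CMBCAny.isCM_fibre_iff sq y').1 h.2⟩

/-- The fibre dimension is a locally constant function with values in `ℕ`, bounded on `Spec S`. -/
theorem exists_dimFun (hCM : ∀ p : PrimeSpectrum R, LocCoh.IsCohenMacaulayRing (p.asIdeal.Fiber S)) :
    ∃ (N : ℕ) (φ : PrimeSpectrum S → Fin (N + 1)), IsLocallyConstant φ ∧
      ∀ (p : PrimeSpectrum R) (Q : PrimeSpectrum (p.asIdeal.Fiber S)) (q : PrimeSpectrum S),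
        Q.asIdeal.comap Algebra.TensorProduct.includeRight.toRingHom = q.asIdeal →
          FlatMor.localDim (PrimeSpectrum (p.asIdeal.Fiber S)) Q = (((φ q : ℕ) : ℕ∞) : WithBot ℕ∞) := by
  let f := Spec.map (CommRingCat.ofHom (algebraMap R S))
  haveI : Flat f := Flat.SpecMap_iff.2 (RingHom.flat_algebraMap_iff.2 inferInstance)
  haveI : LocallyOfFinitePresentation f :=
    HasRingHomProperty.Spec_iff.2 (RingHom.finitePresentation_algebraMap.2 inferInstance)
  have hlc := S9374.result f (isCMAt_of_fibre R S hCM)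
  let ψ : PrimeSpectrum S → ℕ := fun q => FibDim.rd f q + DimFormula.fb f q
  have hψ : ∀ q : PrimeSpectrum S, FlatMor.fibreDimAt f q = (((ψ q : ℕ) : ℕ∞) : WithBot ℕ∞) :=
    fun q => DimFormula.fibreDimAt_eq_add f q
  have hψlc : IsLocallyConstant ψ := by
    refine IsLocallyConstant.desc ψ (fun n : ℕ => ((n : ℕ∞) : WithBot ℕ∞)) ?_
      (WithBot.coe_injective.comp Nat.cast_injective)
    have : (fun n : ℕ => ((n : ℕ∞) : WithBot ℕ∞)) ∘ ψ = fun q : PrimeSpectrum S => FlatMor.fibreDimAt f q :=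
      funext fun q => (hψ q).symm
    rw [this]
    exact hlc
  obtain ⟨N, hN⟩ := hψlc.range_finite.bddAbove
  refine ⟨N, fun q => ⟨ψ q, Nat.lt_succ_of_le (hN ⟨q, rfl⟩)⟩, ?_, fun p Q q hQ => ?_⟩
  · exact IsLocallyConstant.desc _ (Fin.val : Fin (N + 1) → ℕ) hψlc Fin.val_injective
  · have hqp : q.asIdeal.under R = p.asIdeal := by
      ext r
      have h1 : Algebra.TensorProduct.includeRight.toRingHom (algebraMap R S r) =
          algebraMap p.asIdeal.ResidueField (p.asIdeal.Fiber S) (algebraMap R p.asIdeal.ResidueField r) :=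
        ((Algebra.TensorProduct.includeRight (R := R) (A := p.asIdeal.ResidueField) (B := S)).commutes r).trans
          (IsScalarTower.algebraMap_apply R p.asIdeal.ResidueField (p.asIdeal.Fiber S) r)
      rw [Ideal.under, Ideal.mem_comap, ← hQ, Ideal.mem_comap, h1,
        ← Ideal.algebraMap_residueField_eq_zero (I := p.asIdeal)]
      exact ⟨fun h => by_contra fun hne => Q.2.ne_top (Ideal.eq_top_of_isUnit_mem _ h
        ((isUnit_iff_ne_zero.2 hne).map _)), fun h => by rw [h, map_zero]; exact zero_mem _⟩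
    obtain rfl : p = ⟨q.asIdeal.under R, inferInstance⟩ := PrimeSpectrum.ext hqp.symm
    rw [FibDim.localDim_fiber_eq_fibreDimAt q Q hQ, ← hψ]

omit [Module.Flat R S] [Algebra.FinitePresentation R S] in
/-- Idempotents of a locally constant function on the spectrum. -/
theorem exists_idempotents {ι : Type} (φ : PrimeSpectrum S → ι) (hφ : IsLocallyConstant φ) :
    ∃ e : ι → S, (∀ i, IsIdempotentElem (e i)) ∧ ∀ i (q : PrimeSpectrum S), φ q = i ↔ e i ∉ q.asIdeal := by
  have h : ∀ i, ∃ e : S, IsIdempotentElem e ∧ {q | φ q = i} = (PrimeSpectrum.basicOpen e : Set _) :=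
    fun i => PrimeSpectrum.exists_idempotent_basicOpen_eq_of_isClopen (hφ.isClopen_fiber i)
  choose e he hset using h
  exact ⟨e, he, fun i q => by simpa using Set.ext_iff.1 (hset i) q⟩

variable {R S}

/-- The projection onto the piece cut out by an idempotent. -/
noncomputable abbrev proj (e : S) : S →ₐ[R] S ⧸ Ideal.span {1 - e} := Ideal.Quotient.mkₐ R _

omit [Module.Flat R S] [Algebra.FinitePresentation R S] in
theorem isLocalization_away {e : S} (he : IsIdempotentElem e) :
    IsLocalization.Away e (S ⧸ Ideal.span {1 - e}) :=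
  IsLocalization.away_of_isIdempotentElem he Ideal.mk_ker Ideal.Quotient.mk_surjective

omit [Algebra.FinitePresentation R S] in
theorem flat_piece {e : S} (he : IsIdempotentElem e) : Module.Flat R (S ⧸ Ideal.span {1 - e}) := by
  haveI := isLocalization_away he
  haveI : Module.Flat S (S ⧸ Ideal.span {1 - e}) := IsLocalization.flat _ (Submonoid.powers e)
  exact Module.Flat.trans R S _

omit [Module.Flat R S] in
theorem fp_piece (e : S) : Algebra.FinitePresentation R (S ⧸ Ideal.span {1 - e}) :=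
  Algebra.FinitePresentation.quotient (Submodule.fg_span_singleton _)

omit [Module.Flat R S] [Algebra.FinitePresentation R S] in
/-- the fibre of a piece -/
theorem fibre_piece {e : S} (he : IsIdempotentElem e) (k : Type u) [CommRing k] [Algebra R k] :
    Function.Surjective (Algebra.TensorProduct.map (AlgHom.id k k) (proj (R := R) e)) ∧
      letI := (Algebra.TensorProduct.map (AlgHom.id k k) (proj (R := R) e)).toRingHom.toAlgebra
      IsLocalization.Away ((1 : k) ⊗ₜ[R] e) (k ⊗[R] (S ⧸ Ideal.span {1 - e})) := by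
  have hsurj : Function.Surjective (Algebra.TensorProduct.map (AlgHom.id R k) (proj (R := R) e)) :=
    TensorProduct.map_surjective Function.surjective_id Ideal.Quotient.mk_surjective
  refine ⟨hsurj, ?_⟩
  letI := (Algebra.TensorProduct.map (AlgHom.id k k) (proj (R := R) e)).toRingHom.toAlgebra
  refine IsLocalization.away_of_isIdempotentElem ?_ ?_ hsurj
  · show ((1 : k) ⊗ₜ[R] e) * ((1 : k) ⊗ₜ[R] e) = (1 : k) ⊗ₜ[R] e
    rw [Algebra.TensorProduct.tmul_mul_tmul, mul_one, he.eq]
  · have h := Algebra.TensorProduct.lTensor_ker (A := k) (proj (R := R) e) Ideal.Quotient.mk_surjective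
    refine Eq.trans h ?_
    have hk : RingHom.ker (proj (R := R) e) = Ideal.span {1 - e} := Ideal.mk_ker
    rw [hk, Ideal.map_span, Set.image_singleton, map_sub, map_one]
    rfl

omit [Module.Flat R S] [Algebra.FinitePresentation R S] in
theorem cm_piece {e : S} (he : IsIdempotentElem e) (k : Type u) [CommRing k] [Algebra R k]
    [LocCoh.IsCohenMacaulayRing (k ⊗[R] S)] :
    LocCoh.IsCohenMacaulayRing (k ⊗[R] (S ⧸ Ideal.span {1 - e})) := by
  obtain ⟨hs, hl⟩ := fibre_piece (R := R) he k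
  letI := (Algebra.TensorProduct.map (AlgHom.id k k) (proj (R := R) e)).toRingHom.toAlgebra
  haveI := hl
  haveI : IsNoetherianRing (k ⊗[R] (S ⧸ Ideal.span {1 - e})) :=
    isNoetherianRing_of_surjective _ _ (algebraMap (k ⊗[R] S) _) hs
  refine ⟨fun Q _ => ?_⟩
  haveI := IsLocalization.isLocalization_isLocalization_atPrime_isLocalization
    (Submonoid.powers ((1 : k) ⊗ₜ[R] e)) (Localization.AtPrime Q) Q
  let Q₀ : Ideal (k ⊗[R] S) := Q.comap (algebraMap (k ⊗[R] S) (k ⊗[R] (S ⧸ Ideal.span {1 - e})))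
  haveI := LocCoh.IsCohenMacaulayRing.isCohenMacaulayLocalRing_localization (R := k ⊗[R] S) Q₀
  exact Triage.CMMor.isCM_of_equiv (R := Localization.AtPrime Q₀) (S := Localization.AtPrime Q)
    (IsLocalization.algEquiv Q₀.primeCompl (Localization.AtPrime Q₀) (Localization.AtPrime Q)).toRingEquiv
    inferInstance

omit [Module.Flat R S] [Algebra.FinitePresentation R S] in
theorem minimal_piece {e : S} (he : IsIdempotentElem e) (k : Type u) [CommRing k] [Algebra R k]
    (P : Ideal (k ⊗[R] (S ⧸ Ideal.span {1 - e}))) (hP : P ∈ minimalPrimes _) :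
    let Q := P.comap (Algebra.TensorProduct.map (AlgHom.id k k) (proj (R := R) e))
    Q ∈ minimalPrimes (k ⊗[R] S) ∧
      e ∉ Q.comap Algebra.TensorProduct.includeRight.toRingHom ∧
      ringKrullDim (k ⊗[R] (S ⧸ Ideal.span {1 - e}) ⧸ P) = ringKrullDim ((k ⊗[R] S) ⧸ Q) := by
  intro Q
  obtain ⟨hs, hl⟩ := fibre_piece (R := R) he k
  haveI := hP.1.1
  let g := (Algebra.TensorProduct.map (AlgHom.id k k) (proj (R := R) e)).toRingHom
  letI := g.toAlgebra
  haveI := hl
  have hdisj := ((IsLocalization.isPrime_iff_isPrime_disjoint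
    (Submonoid.powers ((1 : k) ⊗ₜ[R] e)) (k ⊗[R] (S ⧸ Ideal.span {1 - e})) P).1 inferInstance)
  refine ⟨⟨⟨hdisj.1, bot_le⟩, fun Q₀ hQ₀ hle => ?_⟩, fun hmem => ?_, ?_⟩
  · haveI := hQ₀.1
    have hd : Disjoint (Submonoid.powers ((1 : k) ⊗ₜ[R] e) : Set (k ⊗[R] S)) (Q₀ : Set (k ⊗[R] S)) :=
      hdisj.2.mono_right hle
    haveI := IsLocalization.isPrime_of_isPrime_disjoint (Submonoid.powers ((1 : k) ⊗ₜ[R] e))
      (k ⊗[R] (S ⧸ Ideal.span {1 - e})) Q₀ hQ₀.1 hd
    have h1 : Q₀.map g ≤ P := Ideal.map_le_iff_le_comap.2 hle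
    have h2 : P ≤ Q₀.map g := hP.2 ⟨inferInstance, bot_le⟩ h1
    intro x hx
    rw [← IsLocalization.comap_map_of_isPrime_disjoint (Submonoid.powers ((1 : k) ⊗ₜ[R] e))
      (k ⊗[R] (S ⧸ Ideal.span {1 - e})) hQ₀.1 hd]
    exact h2 hx
  · exact Set.disjoint_left.1 hdisj.2 (Submonoid.mem_powers _) hmem
  · let h := (Ideal.Quotient.mk P).comp g
    have hh : RingHom.ker h = Q := by rw [← RingHom.comap_ker, Ideal.mk_ker]; rfl
    exact (ringKrullDim_eq_of_ringEquiv ((Ideal.quotEquivOfEq hh.symm).trans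
      (RingHom.quotientKerEquivOfSurjective (f := h) (Ideal.Quotient.mk_surjective.comp hs)))).symm

omit [Module.Flat R S] [Algebra.FinitePresentation R S] in
/-- CRT for a complete system of idempotents. -/
theorem nonempty_equiv_pieces {n : ℕ} (φ : PrimeSpectrum S → Fin n) (e : Fin n → S)
    (he : ∀ i, IsIdempotentElem (e i)) (hφ : ∀ i (q : PrimeSpectrum S), φ q = i ↔ e i ∉ q.asIdeal) :
    Nonempty (S ≃ₐ[R] ((i : Fin n) → S ⧸ Ideal.span {1 - e i})) := by
  have hnot : ∀ (i : Fin n) (q : PrimeSpectrum S), 1 - e i ∈ q.asIdeal → φ q = i := by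
    intro i q hq
    refine (hφ i q).2 fun h => q.2.ne_top ((Ideal.eq_top_iff_one _).2 ?_)
    simpa using add_mem hq h
  have hcop : Pairwise (Function.onFun IsCoprime fun i => Ideal.span {1 - e i}) := by
    intro i j hij
    show IsCoprime (Ideal.span {1 - e i}) (Ideal.span {1 - e j})
    rw [Ideal.isCoprime_iff_sup_eq]
    by_contra hne
    obtain ⟨M, hM, hle⟩ := Ideal.exists_le_maximal _ hne
    let q : PrimeSpectrum S := ⟨M, hM.isPrime⟩
    exact hij ((hnot i q (hle (Ideal.mem_sup_left (Ideal.mem_span_singleton_self _)))).symm.trans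
      (hnot j q (hle (Ideal.mem_sup_right (Ideal.mem_span_singleton_self _)))))
  have hbot : ⨅ i, Ideal.span {1 - e i} = ⊥ := by
    rw [eq_bot_iff]
    intro x hx
    rw [Ideal.mem_iInf] at hx
    have hann : ∀ i, e i * x = 0 := by
      intro i
      obtain ⟨c, rfl⟩ := Ideal.mem_span_singleton.1 (hx i)
      rw [← mul_assoc, mul_sub, mul_one, (he i).eq, sub_self, zero_mul]
    have htop : Ideal.span (Set.range e) = ⊤ := by
      by_contra hne
      obtain ⟨M, hM, hle⟩ := Ideal.exists_le_maximal _ hne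
      exact (hφ (φ ⟨M, hM.isPrime⟩) ⟨M, hM.isPrime⟩).1 rfl (hle (Ideal.subset_span ⟨_, rfl⟩))
    obtain ⟨c, hc⟩ := Ideal.mem_span_range_iff_exists_fun.1 (htop.ge (Submodule.mem_top (x := (1 : S))))
    rw [Ideal.mem_bot, ← one_mul x, ← hc, Finset.sum_mul]
    exact Finset.sum_eq_zero fun i _ => by rw [mul_assoc, hann, mul_zero]
  let π : S →ₐ[R] ((i : Fin n) → S ⧸ Ideal.span {1 - e i}) :=
    Pi.algHom _ _ fun i => Ideal.Quotient.mkₐ R _
  refine ⟨AlgEquiv.ofBijective π ⟨(injective_iff_map_eq_zero π).2 fun x hx => ?_, fun y => ?_⟩⟩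
  · rw [← Ideal.mem_bot, ← hbot, Ideal.mem_iInf]
    exact fun i => Ideal.Quotient.eq_zero_iff_mem.1 (congrFun hx i)
  · obtain ⟨r, hr⟩ := Ideal.pi_quotient_surjective hcop y
    exact ⟨r, funext hr⟩

/-- The decomposition. -/
theorem exists_decomposition (hCM : ∀ p : PrimeSpectrum R, LocCoh.IsCohenMacaulayRing (p.asIdeal.Fiber S)) :
    ∃ (N : ℕ) (T : Fin (N + 1) → Type u) (_ : ∀ d, CommRing (T d)) (_ : ∀ d, Algebra R (T d)),
      Nonempty (S ≃ₐ[R] ((d : Fin (N + 1)) → T d)) ∧
        ∀ d : Fin (N + 1), Module.Flat R (T d) ∧ Algebra.FinitePresentation R (T d) ∧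
          (∀ p : PrimeSpectrum R, LocCoh.IsCohenMacaulayRing (p.asIdeal.Fiber (T d))) ∧
          ∀ (p : PrimeSpectrum R), ∀ P ∈ minimalPrimes (p.asIdeal.Fiber (T d)),
            ringKrullDim (p.asIdeal.Fiber (T d) ⧸ P) = ((d : ℕ) : WithBot ℕ∞) := by
  obtain ⟨N, φ, hlc, hdim⟩ := exists_dimFun R S hCM
  obtain ⟨e, he, hφ⟩ := exists_idempotents S φ hlc
  refine ⟨N, fun d => S ⧸ Ideal.span {1 - e d}, inferInstance, inferInstance,
    nonempty_equiv_pieces φ e he hφ, fun d => ⟨flat_piece (he d), fp_piece (e d), fun p => ?_, ?_⟩⟩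
  · haveI := hCM p
    exact cm_piece (he d) p.asIdeal.ResidueField
  intro p P hP
  obtain ⟨hQ, heQ, hdimQ⟩ := minimal_piece (he d) p.asIdeal.ResidueField P hP
  rw [hdimQ]
  generalize hQdef : P.comap (Algebra.TensorProduct.map (AlgHom.id p.asIdeal.ResidueField p.asIdeal.ResidueField)
    (proj (R := R) (e d))) = Q at hQ heQ ⊢
  haveI := hQ.1.1
  let q : PrimeSpectrum S := ⟨Q.comap Algebra.TensorProduct.includeRight.toRingHom, inferInstance⟩
  have hd : φ q = d := (hφ d q).2 heQ
  have key := hdim p ⟨Q, inferInstance⟩ q rfl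
  rw [CAlgOdd.LocalDimSpec.localDim_eq_add p.asIdeal.ResidueField, hd,
    ← PrimeSpectrum.height_eq_orderHeight, Ideal.height_eq_zero_iff.2 hQ, zero_add,
    VarDim.coheight_eq_ringKrullDim_quotient] at key
  exact key

end Groth.Agent.H4CMDecomp
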